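import Mathlib
import Cfsg.Prelude.Def_Transfer
import Cfsg.Agent.PGroup.Basic
import Cfsg.Agent.PGroupSmall.Order4

/-!
Groups of order `p⁴`: series of invariant subgroups with factors of order `p`; the abelian groups.
-/

set_option autoImplicit false
set_option linter.style.haveILetI false
set_option linter.unusedSectionVars false

namespace CfsgLib.FourthEssential

open scoped commutatorElement Pointwise

universe u

variable {G : Type u} [Group G] [Finite G] {p : ℕ} [hp : Fact p.Prime]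

/-- Invariant under all automorphisms. -/
def Inv (K : Subgroup G) : Prop := ∀ α : MulAut G, ∀ x ∈ K, α x ∈ K

/-- A series of invariant subgroups of orders `p`, `p²`, `p³`. -/
def HasSeries (p : ℕ) (G : Type u) [Group G] : Prop :=
  ∃ K L M : Subgroup G, K ≤ L ∧ L ≤ M ∧ Nat.card K = p ∧ Nat.card L = p ^ 2 ∧ Nat.card M = p ^ 3 ∧
    (∀ α : MulAut G, ∀ x ∈ K, α x ∈ K) ∧ (∀ α : MulAut G, ∀ x ∈ L, α x ∈ L) ∧ ∀ α : MulAut G, ∀ x ∈ M, α x ∈ M

theorem inv_center : Inv (Subgroup.center G) := fun α x hx => by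
  rw [Subgroup.mem_center_iff] at hx ⊢
  intro g
  obtain ⟨g', rfl⟩ := α.surjective g
  rw [← map_mul, ← map_mul, hx]

theorem inv_commutator : Inv (commutator G) := fun α x hx => by
  have h : (commutator G).map α.toMonoidHom ≤ commutator G := by
    rw [commutator_def, Subgroup.map_commutator]
    exact Subgroup.commutator_mono le_top le_top
  exact h ⟨x, hx, rfl⟩

theorem inv_centralizer {K : Subgroup G} (hK : Inv K) : Inv (Subgroup.centralizer (K : Set G)) := fun α x hx => by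
  rw [Subgroup.mem_centralizer_iff] at hx ⊢
  intro y hy
  have := hx _ (hK α⁻¹ y hy)
  apply_fun α at this
  rwa [map_mul, map_mul, MulAut.apply_inv_self] at this

theorem inv_ker_pow {k : ℕ} (f : G →* G) (hf : ∀ x, f x = x ^ k) : Inv f.ker := fun α x hx => by
  rw [MonoidHom.mem_ker, hf] at hx ⊢
  rw [← map_pow, hx, map_one]

theorem inv_map_pow {k : ℕ} (f : G →* G) (hf : ∀ x, f x = x ^ k) {K : Subgroup G} (hK : Inv K) :
    Inv (K.map f) := by
  rintro α _ ⟨x, hx, rfl⟩
  exact ⟨α x, hK α x hx, by rw [hf, hf, map_pow]⟩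

theorem inv_top : Inv (⊤ : Subgroup G) := fun _ _ _ => Subgroup.mem_top _

theorem inv_range_pow {k : ℕ} (f : G →* G) (hf : ∀ x, f x = x ^ k) : Inv f.range := by
  rw [MonoidHom.range_eq_map]
  exact inv_map_pow f hf inv_top

theorem inv_inf {K L : Subgroup G} (hK : Inv K) (hL : Inv L) : Inv (K ⊓ L) :=
  fun α x hx => ⟨hK α x hx.1, hL α x hx.2⟩

theorem card_map_mul (R : Subgroup G) (f : G →* G) :
    Nat.card (R.map f) * Nat.card ↥(R ⊓ f.ker) = Nat.card R := by
  have h1 := (f.comp R.subtype).ker.card_mul_index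
  rw [Subgroup.index_ker, MonoidHom.range_comp, Subgroup.range_subtype] at h1
  rw [← h1, mul_comm]
  congr 1
  rw [show (f.comp R.subtype).ker = (R ⊓ f.ker).subgroupOf R by ext x; simp [Subgroup.mem_subgroupOf],
    Nat.card_congr (Subgroup.subgroupOfEquivOfLe inf_le_left).toEquiv]

theorem exists_pow {K : Subgroup G} (hG : Nat.card G = p ^ 4) : ∃ k ≤ 4, Nat.card K = p ^ k :=
  (Nat.dvd_prime_pow hp.out).1 (hG ▸ Subgroup.card_subgroup_dvd_card K)

theorem card_ne_one {K : Subgroup G} {n : ℕ} (hK : Nat.card K = p ^ n) (hn : n ≠ 0) : K ≠ ⊥ := fun h => by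
  rw [h, Subgroup.card_bot] at hK
  exact (one_lt_pow₀ hp.out.one_lt hn).ne hK

theorem exists_orderP {K : Subgroup G} (hG : IsPGroup p G) (hK : K ≠ ⊥) : ∃ x ∈ K, x ^ p = 1 ∧ x ≠ 1 := by
  obtain ⟨x, hx⟩ := exists_prime_orderOf_dvd_card' p (CfsgLib.PGroupSmall.card_pos_of_ne hG K hK)
  have hx' : orderOf (x : G) = p := by rw [Subgroup.orderOf_coe, hx]
  exact ⟨x, x.2, by rw [← hx', pow_orderOf_eq_one],
    fun h => by rw [h, orderOf_one] at hx'; exact hp.out.ne_one hx'.symm⟩

theorem card_prime_sub {K L : Subgroup G} (hG : IsPGroup p G) (hL : Nat.card L = p) (hne : K ⊓ L ≠ ⊥) : L ≤ K := by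
  have h : K ⊓ L = L := by
    refine Subgroup.eq_of_le_of_card_ge inf_le_right ?_
    rw [hL]
    exact Nat.le_of_dvd Nat.card_pos (CfsgLib.PGroupSmall.card_pos_of_ne hG _ hne)
  exact h ▸ inf_le_left

theorem card_eq_of_mul {a b c : ℕ} (h : p ^ a * p ^ b = p ^ c) : a + b = c := by
  rw [← pow_add] at h
  exact Nat.pow_right_injective hp.out.two_le h

theorem lift_one {n : ℕ} {A : Type*} [AddGroup A] (f : {f : ℤ →+ A // f n = 0}) :
    ZMod.lift n f 1 = f.1 1 := by
  rw [← Int.cast_one, ZMod.lift_coe]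

theorem lt_sq : p < p ^ 2 := by
  have := hp.out.two_le
  nlinarith

theorem sq_lt_cube : p ^ 2 < p ^ 3 := Nat.pow_lt_pow_right hp.out.one_lt (by norm_num)

theorem cube_lt_four : p ^ 3 < p ^ 4 := Nat.pow_lt_pow_right hp.out.one_lt (by norm_num)

theorem card_lt_of_not_mem {K L : Subgroup G} (h : K ≤ L) {x : G} (hx : x ∈ L) (hxK : x ∉ K) :
    Nat.card K < Nat.card L :=
  lt_of_le_of_ne (Subgroup.card_le_of_le h) fun e => hxK ((Subgroup.eq_of_le_of_card_ge h e.ge).symm ▸ hx)

theorem iso_three (hcard : Nat.card G = p ^ 4) (hab : ∀ a b : G, a * b = b * a) (f : G →* G)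
    (hf : ∀ x, f x = x ^ p) (hker : Nat.card f.ker = p ^ 3) (hran : Nat.card f.range = p) :
    Nonempty (G ≃* Multiplicative (ZMod (p ^ 2) × ZMod p × ZMod p)) := by
  letI : CommGroup G := { ‹Group G› with mul_comm := hab }
  obtain ⟨⟨_, a, rfl⟩, hz⟩ := exists_prime_orderOf_dvd_card' p (hran.symm.dvd : p ∣ Nat.card f.range)
  have hfa : f a ≠ 1 := fun h => by
    rw [← Subgroup.orderOf_coe] at hz
    simp [h] at hz
    exact hp.out.ne_one hz.symm
  have hza : Subgroup.zpowers (f a) = f.range := Subgroup.eq_of_le_of_card_ge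
    (Subgroup.zpowers_le.2 ⟨a, rfl⟩) (by rw [hran, Nat.card_zpowers, ← hz, ← Subgroup.orderOf_coe])
  have hran1 : ∀ y ∈ f.range, y ^ p = 1 := fun y hy => by
    have := pow_card_eq_one' (x := (⟨y, hy⟩ : f.range))
    rw [hran] at this
    exact congrArg Subtype.val this
  have ha2 : a ^ (p ^ 2) = 1 := by
    rw [pow_two, pow_mul, ← hf a]
    exact hran1 _ ⟨a, rfl⟩
  have hord : ∀ c ∈ f.ker, c ^ p = 1 := fun c hc => by rw [← hf]; exact MonoidHom.mem_ker.1 hc
  obtain ⟨b, hb, hbn⟩ : ∃ b ∈ f.ker, b ∉ f.range := by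
    by_contra h
    push Not at h
    have := Subgroup.card_le_of_le (H := f.ker) (K := f.range) h
    rw [hker, hran] at this
    have := lt_sq (p := p)
    have := sq_lt_cube (p := p)
    omega
  set A := f.range ⊔ Subgroup.zpowers b with hA
  have hAcard : Nat.card A ≤ p ^ 2 := by
    calc Nat.card A ≤ Nat.card f.range * Nat.card (Subgroup.zpowers b) := by
          have h1 : (A : Set G) = (f.range : Set G) * (Subgroup.zpowers b : Set G) := Subgroup.mul_normal _ _
          show Nat.card (A : Set G) ≤ _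
          rw [h1]
          exact Set.natCard_mul_le
      _ ≤ p * p := Nat.mul_le_mul hran.le
          (by rw [Nat.card_zpowers]; exact Nat.le_of_dvd hp.out.pos (orderOf_dvd_of_pow_eq_one (hord b hb)))
      _ = p ^ 2 := (pow_two p).symm
  obtain ⟨c, hc, hcn⟩ : ∃ c ∈ f.ker, c ∉ A := by
    by_contra h
    push Not at h
    have := Subgroup.card_le_of_le (H := f.ker) (K := A) h
    rw [hker] at this
    have := sq_lt_cube (p := p)
    omega
  haveI : NeZero p := ⟨hp.out.ne_zero⟩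
  haveI : NeZero (p ^ 2) := ⟨pow_ne_zero 2 hp.out.ne_zero⟩
  let F : ZMod (p ^ 2) × ZMod p × ZMod p →+ Additive G := AddMonoidHom.coprod
    (ZMod.lift (p ^ 2) ⟨(zmultiplesHom (Additive G)) (Additive.ofMul a), by
      rw [zmultiplesHom_apply, natCast_zsmul, ← ofMul_pow, ha2, ofMul_one]⟩)
    (AddMonoidHom.coprod
      (ZMod.lift p ⟨(zmultiplesHom (Additive G)) (Additive.ofMul b), by
        rw [zmultiplesHom_apply, natCast_zsmul, ← ofMul_pow, hord b hb, ofMul_one]⟩)
      (ZMod.lift p ⟨(zmultiplesHom (Additive G)) (Additive.ofMul c), by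
        rw [zmultiplesHom_apply, natCast_zsmul, ← ofMul_pow, hord c hc, ofMul_one]⟩))
  set R : Subgroup G := (AddMonoidHom.toMultiplicativeLeft F).range
  have haR : a ∈ R := ⟨Multiplicative.ofAdd (1, 0, 0), by simp [F, AddMonoidHom.toMultiplicativeLeft, lift_one]⟩
  have hbR : b ∈ R := ⟨Multiplicative.ofAdd (0, 1, 0), by simp [F, AddMonoidHom.toMultiplicativeLeft, lift_one]⟩
  have hcR : c ∈ R := ⟨Multiplicative.ofAdd (0, 0, 1), by simp [F, AddMonoidHom.toMultiplicativeLeft, lift_one]⟩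
  have hrR : f.range ≤ R := hza ▸ Subgroup.zpowers_le.2 (by rw [hf]; exact R.pow_mem haR p)
  have hrk : f.range ≤ f.ker := fun y hy => MonoidHom.mem_ker.2 (by rw [hf]; exact hran1 y hy)
  have hAc : A ⊔ Subgroup.zpowers c = f.ker := by
    refine Subgroup.eq_of_le_of_card_ge
      (sup_le (sup_le hrk (Subgroup.zpowers_le.2 hb)) (Subgroup.zpowers_le.2 hc)) ?_
    obtain ⟨i, -, hi⟩ := exists_pow (K := A) hcard
    obtain ⟨j, -, hj⟩ := exists_pow (K := A ⊔ Subgroup.zpowers c) hcard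
    have l1 := card_lt_of_not_mem (le_sup_left : f.range ≤ A)
      (Subgroup.mem_sup_right (Subgroup.mem_zpowers b)) hbn
    have l2 := card_lt_of_not_mem (le_sup_left : A ≤ A ⊔ Subgroup.zpowers c)
      (Subgroup.mem_sup_right (Subgroup.mem_zpowers c)) hcn
    rw [hran, hi] at l1
    rw [hi, hj] at l2
    have i1 : 1 < i := (Nat.pow_lt_pow_iff_right hp.out.one_lt).1 (by rwa [pow_one])
    have j1 : i < j := (Nat.pow_lt_pow_iff_right hp.out.one_lt).1 l2
    rw [hker, hj]
    exact Nat.pow_le_pow_right hp.out.pos (by omega)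
  have hKR : f.ker ≤ R :=
    hAc ▸ sup_le (sup_le hrR (Subgroup.zpowers_le.2 hbR)) (Subgroup.zpowers_le.2 hcR)
  have hsurj : Function.Surjective (AddMonoidHom.toMultiplicativeLeft F) := by
    intro g
    have h1 : R = ⊤ := by
      by_contra hne
      have h2 : f.ker = R := Subgroup.eq_of_le_of_card_ge hKR (by
        obtain ⟨i, hi4, hi⟩ := exists_pow (K := R) hcard
        rw [hker, hi]
        refine Nat.pow_le_pow_right hp.out.pos ?_
        by_contra h4
        exact hne (Subgroup.eq_top_of_card_eq R (by rw [hi, hcard, show i = 4 by omega])))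
      exact hfa (MonoidHom.mem_ker.1 (h2 ▸ haR))
    exact (h1 ▸ Subgroup.mem_top g : g ∈ R)
  refine ⟨(MulEquiv.ofBijective _ ((Nat.bijective_iff_surjective_and_card _).2 ⟨hsurj, ?_⟩)).symm⟩
  rw [Nat.card_congr Multiplicative.toAdd, Nat.card_prod, Nat.card_prod, Nat.card_zmod, Nat.card_zmod, hcard]
  ring

theorem iso_two (hcard : Nat.card G = p ^ 4) (hab : ∀ a b : G, a * b = b * a) (f : G →* G)
    (hf : ∀ x, f x = x ^ p) (heq : f.range = f.ker) (hran : Nat.card f.range = p ^ 2) :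
    Nonempty (G ≃* Multiplicative (ZMod (p ^ 2) × ZMod (p ^ 2))) := by
  letI : CommGroup G := { ‹Group G› with mul_comm := hab }
  have hexp : ∀ x : G, x ^ (p ^ 2) = 1 := fun x => by
    have : f x ∈ f.ker := heq ▸ ⟨x, rfl⟩
    rw [MonoidHom.mem_ker, hf, hf, ← pow_mul, ← pow_two] at this
    exact this
  obtain ⟨u, ⟨a, rfl⟩, hu1⟩ : ∃ u ∈ f.range, u ≠ 1 := by
    by_contra h
    push Not at h
    exact card_ne_one hran two_ne_zero ((Subgroup.eq_bot_iff_forall _).2 h)
  have hup : f a ^ p = 1 := by rw [hf, ← pow_mul, ← pow_two]; exact hexp a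
  obtain ⟨v, ⟨b, rfl⟩, hvn⟩ : ∃ v ∈ f.range, v ∉ Subgroup.zpowers (f a) := by
    by_contra h
    push Not at h
    have := Subgroup.card_le_of_le (H := f.range) (K := Subgroup.zpowers (f a)) h
    rw [hran, Nat.card_zpowers, orderOf_eq_prime hup hu1] at this
    have := lt_sq (p := p)
    omega
  haveI : NeZero (p ^ 2) := ⟨pow_ne_zero 2 hp.out.ne_zero⟩
  let F : ZMod (p ^ 2) × ZMod (p ^ 2) →+ Additive G := AddMonoidHom.coprod
    (ZMod.lift (p ^ 2) ⟨(zmultiplesHom (Additive G)) (Additive.ofMul a), by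
      rw [zmultiplesHom_apply, natCast_zsmul, ← ofMul_pow, hexp, ofMul_one]⟩)
    (ZMod.lift (p ^ 2) ⟨(zmultiplesHom (Additive G)) (Additive.ofMul b), by
      rw [zmultiplesHom_apply, natCast_zsmul, ← ofMul_pow, hexp, ofMul_one]⟩)
  set R : Subgroup G := (AddMonoidHom.toMultiplicativeLeft F).range
  have haR : a ∈ R := ⟨Multiplicative.ofAdd (1, 0), by simp [F, AddMonoidHom.toMultiplicativeLeft, lift_one]⟩
  have hbR : b ∈ R := ⟨Multiplicative.ofAdd (0, 1), by simp [F, AddMonoidHom.toMultiplicativeLeft, lift_one]⟩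
  set W := Subgroup.zpowers (f a) ⊔ Subgroup.zpowers (f b) with hW
  have hWr : W = f.range := by
    refine Subgroup.eq_of_le_of_card_ge (sup_le (Subgroup.zpowers_le.2 ⟨a, rfl⟩) (Subgroup.zpowers_le.2 ⟨b, rfl⟩)) ?_
    obtain ⟨i, -, hi⟩ := exists_pow (K := W) hcard
    have l1 := card_lt_of_not_mem (le_sup_left : Subgroup.zpowers (f a) ≤ W)
      (Subgroup.mem_sup_right (Subgroup.mem_zpowers _)) hvn
    rw [Nat.card_zpowers, orderOf_eq_prime hup hu1, hi] at l1
    rw [hran, hi]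
    exact Nat.pow_le_pow_right hp.out.pos ((Nat.pow_lt_pow_iff_right hp.out.one_lt).1 (by rwa [pow_one]))
  have hWR : W ≤ R := by
    refine sup_le (Subgroup.zpowers_le.2 ?_) (Subgroup.zpowers_le.2 ?_)
    · rw [hf]; exact R.pow_mem haR p
    · rw [hf]; exact R.pow_mem hbR p
  have hsurj : Function.Surjective (AddMonoidHom.toMultiplicativeLeft F) := by
    intro g
    have h1 : f g ∈ R.map f :=
      (sup_le (Subgroup.zpowers_le.2 ⟨a, haR, rfl⟩) (Subgroup.zpowers_le.2 ⟨b, hbR, rfl⟩) : W ≤ R.map f)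
        (hWr.ge ⟨g, rfl⟩)
    obtain ⟨r, hr, hrg⟩ := h1
    have h2 : r⁻¹ * g ∈ f.ker := by rw [MonoidHom.mem_ker, map_mul, map_inv, hrg, inv_mul_cancel]
    have h3 : r⁻¹ * g ∈ R := hWR (hWr.ge (heq.ge h2))
    have := R.mul_mem hr h3
    rw [mul_inv_cancel_left] at this
    exact this
  refine ⟨(MulEquiv.ofBijective _ ((Nat.bijective_iff_surjective_and_card _).2 ⟨hsurj, ?_⟩)).symm⟩
  rw [Nat.card_congr Multiplicative.toAdd, Nat.card_prod, Nat.card_zmod, hcard]
  ring

theorem abelian_case (hcard : Nat.card G = p ^ 4) (hab : ∀ a b : G, a * b = b * a) :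
    (∀ x : G, x ^ p = 1) ∨ Nonempty (G ≃* Multiplicative (ZMod (p ^ 2) × ZMod p × ZMod p)) ∨
    (Nonempty (G ≃* Multiplicative (ZMod (p ^ 2) × ZMod (p ^ 2))) ∧
      ∃ f : G →* G, (∀ x, f x = x ^ p) ∧ f.range = f.ker ∧ Nat.card f.ker = p ^ 2) ∨ HasSeries p G := by
  have hG : IsPGroup p G := IsPGroup.of_card hcard
  obtain ⟨f, hf⟩ : ∃ f : G →* G, ∀ x, f x = x ^ p :=
    ⟨MonoidHom.mk' (fun x => x ^ p) fun x y => Commute.mul_pow (hab x y) p, fun _ => rfl⟩
  obtain ⟨b, hb4, hb⟩ := exists_pow (K := f.range) hcard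
  obtain ⟨a, ha4, ha⟩ := exists_pow (K := f.ker) hcard
  have hab' : a + b = 4 :=
    card_eq_of_mul (by rw [← ha, ← hb, ← Subgroup.index_ker, Subgroup.card_mul_index, hcard])
  have hkmem : ∀ {x : G}, x ^ p = 1 → x ∈ f.ker := fun hx => MonoidHom.mem_ker.2 (by rw [hf, hx])
  have hne : ∀ R : Subgroup G, R ≠ ⊥ → R ⊓ f.ker ≠ ⊥ := fun R hR e => by
    obtain ⟨x, hx, hxp, hx1⟩ := exists_orderP hG hR
    exact hx1 (Subgroup.mem_bot.1 (e ▸ ⟨hx, hkmem hxp⟩))
  have ha0 : a ≠ 0 := fun h => by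
    refine hne ⊤ ?_ (eq_bot_iff.2 (inf_le_right.trans (le_of_eq (Subgroup.card_eq_one.1 (by rw [ha, h, pow_zero])))))
    exact card_ne_one (K := (⊤ : Subgroup G)) (n := 4) (by rw [Subgroup.card_top, hcard]) (by norm_num)
  rcases (show (a = 4 ∧ b = 0) ∨ (a = 3 ∧ b = 1) ∨ (a = 2 ∧ b = 2) ∨ (a = 1 ∧ b = 3) by omega) with
    ⟨rfl, rfl⟩ | ⟨rfl, rfl⟩ | ⟨rfl, rfl⟩ | ⟨rfl, rfl⟩
  · left
    intro x
    rw [pow_zero, Subgroup.card_eq_one] at hb
    have : f x ∈ f.range := ⟨x, rfl⟩
    rw [hb, Subgroup.mem_bot, hf] at this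
    exact this
  · right; left
    exact iso_three hcard hab f hf ha (by rw [hb, pow_one])
  · by_cases heq : f.range = f.ker
    · exact Or.inr (Or.inr (Or.inl ⟨iso_two hcard hab f hf heq hb, f, hf, heq, ha⟩))
    · right; right; right
      have hI : f.range ⊓ f.ker ≠ ⊥ := hne _ (card_ne_one hb two_ne_zero)
      obtain ⟨i, -, hi⟩ := exists_pow (K := f.range ⊓ f.ker) hcard
      have hi1 : i = 1 := by
        have h0 : i ≠ 0 := fun e => hI (Subgroup.card_eq_one.1 (by rw [hi, e, pow_zero]))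
        have h2 : i ≤ 2 := (Nat.pow_dvd_pow_iff_le_right hp.out.one_lt).1
          (hi ▸ hb ▸ Subgroup.card_dvd_of_le inf_le_left)
        rcases (show i = 1 ∨ i = 2 by omega) with h | h
        · exact h
        · exfalso
          subst h
          have e1 : f.range ⊓ f.ker = f.range := Subgroup.eq_of_le_of_card_ge inf_le_left (by rw [hi, hb])
          exact heq (Subgroup.eq_of_le_of_card_ge (e1 ▸ inf_le_right) (by rw [ha, hb]))
      subst hi1
      have hm := card_map_mul f.range f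
      rw [hi, hb] at hm
      have hr2 : Nat.card (f.range.map f) = p :=
        Nat.eq_of_mul_eq_mul_right hp.out.pos (by rw [pow_one] at hm; rw [hm, pow_two])
      have hk : Nat.card (f.comp f).ker = p ^ 3 := by
        have h1 := (f.comp f).ker.card_mul_index
        rw [Subgroup.index_ker, MonoidHom.range_comp, hr2, hcard] at h1
        exact Nat.eq_of_mul_eq_mul_right hp.out.pos (h1.trans (by ring))
      refine ⟨f.range ⊓ f.ker, f.ker, (f.comp f).ker, inf_le_right, fun x hx => by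
        rw [MonoidHom.mem_ker, MonoidHom.comp_apply, MonoidHom.mem_ker.1 hx, map_one],
        by rw [hi, pow_one], ha, hk, inv_inf (inv_range_pow f hf) (inv_ker_pow f hf), inv_ker_pow f hf,
        inv_ker_pow (k := p * p) _ fun x => ?_⟩
      rw [MonoidHom.comp_apply, hf, hf, ← pow_mul]
  · right; right; right
    rw [pow_one] at ha
    have hle : ∀ R : Subgroup G, R ≠ ⊥ → f.ker ≤ R := fun R hR => card_prime_sub hG ha (hne R hR)
    have hm := card_map_mul f.range f
    rw [inf_eq_right.2 (hle _ (card_ne_one hb (by norm_num))), ha, hb] at hm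
    have h2 : Nat.card (f.range.map f) = p ^ 2 := Nat.eq_of_mul_eq_mul_right hp.out.pos (hm.trans (by ring))
    refine ⟨f.ker, f.range.map f, f.range, hle _ (card_ne_one h2 two_ne_zero), ?_, ha, h2, hb,
      inv_ker_pow f hf, inv_map_pow f hf (inv_range_pow f hf), inv_range_pow f hf⟩
    rintro _ ⟨y, -, rfl⟩
    exact ⟨y, rfl⟩

end CfsgLib.FourthEssential
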