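import Cfsg.Agent.FourthEssential.Groups
import Cfsg.Agent.PGroup.Critical
import Cfsg.Agent.RankOneP.Basic
import Cfsg.Agent.H10.QdPrime

/-!
Nonabelian groups of order `p⁴`: three shapes, otherwise a series of invariant subgroups.
-/

set_option autoImplicit false
set_option linter.style.haveILetI false
set_option linter.unusedSectionVars false

namespace CfsgLib.FourthEssential

open scoped commutatorElement

universe u

variable {G : Type u} [Group G] [Finite G] {p : ℕ} [hp : Fact p.Prime]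

/-- A cyclic group of order `n` is `ZMod n`. -/
noncomputable def zmodEquivOfCard {H : Type u} [Group H] [IsCyclic H] {n : ℕ} (h : Nat.card H = n) :
    Multiplicative (ZMod n) ≃* H := h ▸ zmodCyclicMulEquiv (G := H) inferInstance

/-- A complement to a central element of order `p` outside the Frattini subgroup. -/
theorem split_central (hcard : Nat.card G = p ^ 4) {w : G} (hw : w ∈ Subgroup.center G) (hwp : w ^ p = 1)
    (hwF : w ∉ frattini G) : ∃ M : Subgroup G, Nat.card M = p ^ 3 ∧ w ∉ M ∧ M ⊔ Subgroup.zpowers w = ⊤ ∧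
      Nonempty (G ≃* M × Multiplicative (ZMod p)) := by
  have hG : IsPGroup p G := IsPGroup.of_card hcard
  obtain ⟨M, hM, hwM⟩ : ∃ M : Subgroup G, IsCoatom M ∧ w ∉ M := by
    by_contra h
    push Not at h
    apply hwF
    rw [show frattini G = Order.radical (Subgroup G) from rfl, Order.radical]
    exact Subgroup.mem_iInf.mpr fun M => Subgroup.mem_iInf.mpr fun hM => h M hM
  obtain ⟨hn, hidx⟩ := CfsgLib.PGroup.index_coatom hG hM
  haveI := hn
  have hMc : Nat.card M = p ^ 3 := by
    have := M.card_mul_index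
    rw [hidx, hcard] at this
    exact Nat.eq_of_mul_eq_mul_right hp.out.pos (this.trans (by ring))
  have hw1 : w ≠ 1 := fun h => hwM (h ▸ M.one_mem)
  have hwo : orderOf w = p := orderOf_eq_prime hwp hw1
  have htop := CfsgLib.PGroupSmall.sup_zpowers_eq_top hidx hwM
  refine ⟨M, hMc, hwM, htop, ?_⟩
  haveI : NeZero p := ⟨hp.out.ne_zero⟩
  have ζ : Multiplicative (ZMod p) ≃* Subgroup.zpowers w :=
    zmodEquivOfCard (by rw [Nat.card_zpowers, hwo])
  let F : M × Multiplicative (ZMod p) →* G :=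
    MonoidHom.noncommCoprod M.subtype ((Subgroup.zpowers w).subtype.comp ζ.toMonoidHom) fun m z => by
      obtain ⟨k, hk⟩ := (ζ z).2
      show Commute (m : G) (ζ z : G)
      rw [← hk]
      exact (show Commute (m : G) w from Subgroup.mem_center_iff.1 hw (m : G)).zpow_right k
  have hs : Function.Surjective F := by
    intro g
    have hg : g ∈ M ⊔ Subgroup.zpowers w := htop ▸ Subgroup.mem_top g
    obtain ⟨m, hm, z, hz, rfl⟩ := Subgroup.mem_sup_of_normal_left.1 hg
    exact ⟨(⟨m, hm⟩, ζ.symm ⟨z, hz⟩), by simp [F]⟩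
  refine ⟨(MulEquiv.ofBijective F ((Nat.bijective_iff_surjective_and_card _).2 ⟨hs, ?_⟩)).symm⟩
  rw [Nat.card_prod, hMc, Nat.card_congr Multiplicative.toAdd, Nat.card_zmod, hcard]
  ring

theorem maximal_class_series (hcard : Nat.card G = p ^ 4) (hnab : ¬ IsMulCommutative G)
    (hk : Nat.card (Subgroup.center G) = p) : HasSeries p G := by
  have hG : IsPGroup p G := IsPGroup.of_card hcard
  haveI : Group.IsNilpotent G := hG.isNilpotent
  set Z := Subgroup.center G with hZ
  set D := commutator G with hD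
  have hDne : D ≠ ⊥ := fun h => hnab ((commutator_eq_bot_iff G).1 h)
  obtain ⟨d, hd4, hd⟩ := exists_pow (K := D) hcard
  have hd0 : d ≠ 0 := fun h => hDne (Subgroup.card_eq_one.1 (by rw [hd, h, pow_zero]))
  have hd1 : d ≠ 1 := fun h => by
    have h1 := CfsgLib.PGroupSmall.center_index_sq_of_card_commutator hcard (by rw [← hD, hd, h, pow_one])
    have h2 := Z.card_mul_index
    rw [hk, hZ, h1, hcard] at h2
    have := cube_lt_four (p := p)
    have e : p * p ^ 2 = p ^ 3 := by ring
    omega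
  have hd2 : d ≤ 2 := by
    by_contra hlt
    have hG' : frattini G ≠ ⊤ := fun e => by
      have := frattini_nongenerating (K := (⊥ : Subgroup G)) (by rw [bot_sup_eq, e])
      have h1 : Nat.card (⊤ : Subgroup G) = 1 := by rw [← this, Subgroup.card_bot]
      rw [Subgroup.card_top, hcard] at h1
      exact (Nat.one_lt_pow (by norm_num) hp.out.one_lt).ne' h1
    obtain ⟨t, ht⟩ : ∃ t, t ∉ frattini G := by
      by_contra h
      push Not at h
      exact hG' ((Subgroup.eq_top_iff' _).2 h)
    rcases (show d = 3 ∨ d = 4 by omega) with rfl | rfl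
    · have hidx : D.index = p := by
        have := D.card_mul_index
        rw [hd, hcard] at this
        exact Nat.eq_of_mul_eq_mul_left (pow_pos hp.out.pos 3) (this.trans (by ring))
      have htD : t ∉ D := fun h => ht (CfsgLib.PGroup.commutator_le_frattini hG h)
      have htop := CfsgLib.PGroupSmall.sup_zpowers_eq_top hidx htD
      have : Subgroup.zpowers t = ⊤ := frattini_nongenerating (top_le_iff.1 (htop ▸ sup_le
        ((CfsgLib.PGroup.commutator_le_frattini hG).trans le_sup_right) le_sup_left))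
      exact hnab ⟨⟨fun a b => by
        obtain ⟨i, rfl⟩ := (this ▸ Subgroup.mem_top a : a ∈ Subgroup.zpowers t)
        obtain ⟨j, rfl⟩ := (this ▸ Subgroup.mem_top b : b ∈ Subgroup.zpowers t)
        exact ((Commute.refl t).zpow_zpow i j).eq⟩⟩
    · refine ht (CfsgLib.PGroup.commutator_le_frattini hG ?_)
      show t ∈ D
      rw [Subgroup.eq_top_of_card_eq D (by rw [hd, hcard])]
      exact Subgroup.mem_top t
  obtain rfl : d = 2 := by omega
  set L := fun n => (⊤ : Subgroup G).lowerCentralSeries n with hL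
  have hL1 : L 1 = D := Subgroup.top_lowerCentralSeries_one
  have hL21 : L 2 ≤ D := hL1 ▸ Subgroup.lowerCentralSeries_antitone _ (by omega)
  have hL2ne : L 2 ≠ ⊥ := fun h => by
    have hle : D ≤ Z := by
      simp only [hL] at h
      rwa [Subgroup.lowerCentralSeries_succ, Subgroup.top_lowerCentralSeries_one,
        Subgroup.commutator_eq_bot_iff_le_centralizer, Subgroup.coe_top, Subgroup.centralizer_univ] at h
    have := Subgroup.card_le_of_le hle
    rw [hd, hk] at this
    have := lt_sq (p := p)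
    omega
  have hL2c : Nat.card (L 2) = p := by
    obtain ⟨i, -, hi⟩ := exists_pow (K := L 2) hcard
    have h1 : i ≤ 2 := (Nat.pow_dvd_pow_iff_le_right hp.out.one_lt).1 (hi ▸ hd ▸ Subgroup.card_dvd_of_le hL21)
    have h0 : i ≠ 0 := fun h => hL2ne (Subgroup.card_eq_one.1 (by rw [hi, h, pow_zero]))
    have h2 : i ≠ 2 := fun h => CfsgLib.PGroupSmall.lcs_succ_ne (n := 1) (fun e => hDne (hL1.symm.trans e))
      ((Subgroup.eq_of_le_of_card_ge hL21 (by rw [hi, hd, h])).trans hL1.symm)
    rw [hi, show i = 1 by omega, pow_one]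
  have hL3 : L 3 = ⊥ := by
    by_contra h
    refine CfsgLib.PGroupSmall.lcs_succ_ne (n := 2) hL2ne (Subgroup.eq_of_le_of_card_ge
      (Subgroup.lowerCentralSeries_antitone _ (by omega)) ?_)
    show Nat.card (L 2) ≤ Nat.card (L 3)
    rw [hL2c]
    exact Nat.le_of_dvd Nat.card_pos (CfsgLib.PGroupSmall.card_pos_of_ne hG _ h)
  have hL2Z : L 2 = Z := by
    refine Subgroup.eq_of_le_of_card_ge ?_ (by rw [hk, hL2c])
    simp only [hL] at hL3 ⊢
    rwa [Subgroup.lowerCentralSeries_succ, Subgroup.commutator_eq_bot_iff_le_centralizer, Subgroup.coe_top,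
      Subgroup.centralizer_univ] at hL3
  have hZD : Z ≤ D := hL2Z ▸ hL21
  obtain ⟨h, hh, hhZ⟩ : ∃ h ∈ D, h ∉ Z := by
    by_contra hcon
    push Not at hcon
    have := Subgroup.card_le_of_le (H := D) (K := Z) hcon
    rw [hd, hk] at this
    have := lt_sq (p := p)
    omega
  have hcm : ∀ g : G, ⁅g, h⁆ ∈ Z := fun g => by
    rw [← hL2Z]
    show ⁅g, h⁆ ∈ (⊤ : Subgroup G).lowerCentralSeries (1 + 1)
    rw [Subgroup.lowerCentralSeries_succ, Subgroup.commutator_comm]
    exact Subgroup.commutator_mem_commutator (Subgroup.mem_top g) (hL1.ge hh)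
  let ψ : G →* Z := MonoidHom.mk' (fun g => ⟨⁅g, h⁆, hcm g⟩) fun a b => Subtype.ext
    (CfsgLib.PGroup.commutator_mul_left_central (hcm b))
  have hker : ψ.ker = Subgroup.centralizer (D : Set G) := by
    ext g
    rw [MonoidHom.mem_ker, Subtype.ext_iff, Subgroup.mem_centralizer_iff]
    constructor
    · intro e y hy
      have hgh : Commute g h := commutatorElement_eq_one_iff_mul_comm.mp e
      have hsub : Z ≤ D ⊓ Subgroup.centralizer ({g} : Set G) :=
        le_inf hZD (Subgroup.center_le_centralizer _)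
      have hle : D ⊓ Subgroup.centralizer ({g} : Set G) = D := by
        refine Subgroup.eq_of_le_of_card_ge inf_le_left ?_
        obtain ⟨i, -, hi⟩ := exists_pow (K := D ⊓ Subgroup.centralizer ({g} : Set G)) hcard
        have hlt := card_lt_of_not_mem hsub
          ⟨hh, Subgroup.mem_centralizer_singleton_iff.mpr hgh.symm.eq⟩ hhZ
        rw [hk, hi] at hlt
        rw [hd, hi]
        exact Nat.pow_le_pow_right hp.out.pos ((Nat.pow_lt_pow_iff_right hp.out.one_lt).1 (by rwa [pow_one]))
      rw [← hle] at hy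
      exact Subgroup.mem_centralizer_singleton_iff.mp hy.2
    · intro e
      exact commutatorElement_eq_one_iff_mul_comm.mpr (e h hh).symm
  set M := Subgroup.centralizer (D : Set G)
  have hMc : Nat.card M = p ^ 3 := by
    have h1 := M.card_mul_index
    rw [hcard] at h1
    have h2 : M.index ∣ p := by
      rw [← hker, Subgroup.index_ker, ← hk]
      exact Subgroup.card_subgroup_dvd_card _
    rcases (Nat.dvd_prime hp.out).1 h2 with h3 | h3
    · exfalso
      apply hhZ
      refine Subgroup.mem_center_iff.2 fun g => ?_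
      have : g ∈ M := (Subgroup.index_eq_one.1 h3).symm ▸ Subgroup.mem_top g
      exact (Subgroup.mem_centralizer_iff.1 this h hh).symm
    · rw [h3] at h1
      exact Nat.eq_of_mul_eq_mul_right hp.out.pos (h1.trans (by ring))
  refine ⟨Z, D, M, hZD, ?_, hk, hd, hMc, inv_center, inv_commutator, inv_centralizer inv_commutator⟩
  intro x hx
  rw [Subgroup.mem_centralizer_iff]
  intro y hy
  haveI : IsMulCommutative D := IsPGroup.isMulCommutative_of_card_eq_prime_sq hd
  exact congrArg Subtype.val (mul_comm' (⟨y, hy⟩ : D) ⟨x, hx⟩)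

theorem two_case {G : Type u} [Group G] [Finite G] (hcard : Nat.card G = 2 ^ 4) (hnab : ¬ IsMulCommutative G)
    (hk : Nat.card (Subgroup.center G) = 2 ^ 2) (hDc : Nat.card (commutator G) = 2)
    (hcl : ∀ a b : G, ⁅a, b⁆ ∈ Subgroup.center G) (hK : ∀ x : G, x ^ 2 ∈ commutator G)
    (hZp : ∀ z ∈ Subgroup.center G, z ^ 2 = 1) {t : G} (ht : t ^ 2 = 1) (htZ : t ∉ Subgroup.center G) :
    HasSeries 2 G := by
  haveI : Fact (Nat.Prime 2) := ⟨Nat.prime_two⟩
  set Z := Subgroup.center G
  set D := commutator G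
  have hDp : ∀ x ∈ D, x ^ 2 = 1 := fun x hx => by
    have h1 := pow_card_eq_one' (x := (⟨x, hx⟩ : D))
    rw [hDc] at h1
    exact congrArg Subtype.val h1
  have hclD : ∀ a b : G, ⁅a, b⁆ ∈ D := fun a b =>
    Subgroup.commutator_mem_commutator (Subgroup.mem_top a) (Subgroup.mem_top b)
  have hDZ : D ≤ Z := by
    show commutator G ≤ _
    rw [commutator_def, Subgroup.commutator_le]
    exact fun a _ b _ => hcl a b
  obtain ⟨s, hs⟩ : ∃ s : G, s ^ 2 ≠ 1 := by
    by_contra h
    push Not at h
    refine hnab ⟨⟨fun a b => ?_⟩⟩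
    have inv_self : ∀ x : G, x⁻¹ = x := fun x => inv_eq_of_mul_eq_one_right (by rw [← pow_two]; exact h x)
    rw [← inv_self (a * b), mul_inv_rev, inv_self, inv_self]
  have hsZ : s ∉ Z := fun h => hs (hZp s h)
  set T := Z ⊔ Subgroup.zpowers s with hT
  have hs2Z : s ^ 2 ∈ Z := hDZ (hK s)
  have hTel : ∀ x ∈ T, ∃ z ∈ Z, x = z ∨ x = z * s := by
    intro x hx
    obtain ⟨z, hz, y, hy, rfl⟩ := Subgroup.mem_sup_of_normal_left.1 hx
    obtain ⟨i, rfl⟩ := Subgroup.mem_zpowers_iff.1 hy
    obtain ⟨j, hj | hj⟩ := Int.even_or_odd' i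
    · refine ⟨z * (s ^ 2) ^ j, Z.mul_mem hz (Z.zpow_mem hs2Z j), Or.inl ?_⟩
      rw [hj, zpow_mul, ← zpow_natCast s 2]; rfl
    · refine ⟨z * (s ^ 2) ^ j, Z.mul_mem hz (Z.zpow_mem hs2Z j), Or.inr ?_⟩
      rw [hj, zpow_add_one, zpow_mul, ← zpow_natCast s 2, mul_assoc]; rfl
  have htT : t ∉ T := fun h => by
    obtain ⟨z, hz, e | e⟩ := hTel t h
    · exact htZ (e ▸ hz)
    · have hc : Commute z s := (Subgroup.mem_center_iff.1 hz s).symm
      rw [e, hc.mul_pow, hZp z hz, one_mul] at ht
      exact hs ht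
  obtain ⟨i, hi4, hi⟩ := exists_pow (K := T) hcard
  have hi3 : i = 3 := by
    have l1 := card_lt_of_not_mem (le_sup_left : Z ≤ T) (Subgroup.mem_sup_right (Subgroup.mem_zpowers s)) hsZ
    rw [hk, hi] at l1
    have : i ≠ 4 := fun h =>
      htT ((Subgroup.eq_top_of_card_eq T (by rw [hi, hcard, h])).symm ▸ Subgroup.mem_top t)
    have := (Nat.pow_lt_pow_iff_right one_lt_two).1 l1
    omega
  subst hi3
  have hTi : T.index = 2 := by
    have := T.card_mul_index
    rw [hi, hcard] at this
    omega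
  have hne : ⁅s, t⁆ ≠ 1 := fun h => by
    have hst : Commute s t := commutatorElement_eq_one_iff_mul_comm.mp h
    have hle : T ⊔ Subgroup.zpowers t ≤ Subgroup.centralizer ({s} : Set G) :=
      sup_le (sup_le (Subgroup.center_le_centralizer _)
        (Subgroup.zpowers_le.2 (Subgroup.mem_centralizer_singleton_iff.mpr rfl)))
        (Subgroup.zpowers_le.2 (Subgroup.mem_centralizer_singleton_iff.mpr hst.symm.eq))
    rw [CfsgLib.PGroupSmall.sup_zpowers_eq_top hTi htT] at hle
    exact hsZ (Subgroup.mem_center_iff.2 fun y =>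
      Subgroup.mem_centralizer_singleton_iff.mp (hle (Subgroup.mem_top y)))
  have huniq : s ^ 2 = ⁅s, t⁆ := by
    by_contra hne'
    have hDd : ({1, s ^ 2, ⁅s, t⁆} : Set G) ⊆ (D : Set G) := by
      rintro x (rfl | rfl | rfl)
      exacts [D.one_mem, hK s, hclD s t]
    have h3 := Set.ncard_le_ncard hDd (Set.toFinite _)
    rw [Set.ncard_insert_of_notMem (by simp [hs.symm, hne.symm]), Set.ncard_pair hne',
      ← Nat.card_coe_set_eq] at h3
    change 3 ≤ Nat.card D at h3
    omega
  have hout : ∀ x : G, x ∉ T → x ^ 2 = 1 := by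
    intro x hx
    have : t * x ∈ T := (Subgroup.mul_mem_iff_of_index_two hTi).mpr (iff_of_false htT hx)
    obtain ⟨z, hz, e⟩ := hTel _ this
    have htt : t * t = 1 := by rw [← pow_two]; exact ht
    have hxe : x = t * (t * x) := by rw [← mul_assoc, htt, one_mul]
    rcases e with e | e
    · rw [hxe, e, (show Commute t z from Subgroup.mem_center_iff.1 hz t).mul_pow, ht, hZp z hz, one_mul]
    · have hcs : Commute (t * s) z := Subgroup.mem_center_iff.1 hz (t * s)
      rw [hxe, e, show t * (z * s) = z * (t * s) by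
          rw [← mul_assoc, (show Commute t z from Subgroup.mem_center_iff.1 hz t).eq, mul_assoc],
        hcs.symm.mul_pow, hZp z hz, one_mul, CfsgLib.PGroup.mul_pow_central (hcl s t), ht, one_mul,
        show Nat.choose 2 2 = 1 from rfl, pow_one, ← huniq, ← pow_two]
      exact hDp _ (hK s)
  have hcl' : Subgroup.closure {x : G | x ^ 2 ≠ 1} = T := by
    refine le_antisymm ((Subgroup.closure_le _).mpr fun x hx => by_contra fun h => hx (hout x h))
      (sup_le (fun z hz => ?_) (Subgroup.zpowers_le.2 (Subgroup.subset_closure hs)))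
    have h1 : s * z ∈ Subgroup.closure {x : G | x ^ 2 ≠ 1} := Subgroup.subset_closure (by
      show (s * z) ^ 2 ≠ 1
      rw [(show Commute s z from Subgroup.mem_center_iff.1 hz s).mul_pow, hZp z hz, mul_one]
      exact hs)
    have := Subgroup.mul_mem _ (Subgroup.inv_mem _ (Subgroup.subset_closure hs)) h1
    rwa [inv_mul_cancel_left] at this
  refine ⟨D, Z, T, hDZ, le_sup_left, hDc, hk, hi, inv_commutator, inv_center, ?_⟩
  intro α x hx
  rw [← hcl'] at hx ⊢
  have h2 : α x ∈ (Subgroup.closure {g : G | g ^ 2 ≠ 1}).map α.toMonoidHom := ⟨x, hx, rfl⟩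
  rw [MonoidHom.map_closure] at h2
  refine Subgroup.closure_mono ?_ h2
  rintro _ ⟨g, hg, rfl⟩
  show (α g) ^ 2 ≠ 1
  rw [← map_pow]
  exact fun h => hg (α.injective (h.trans (map_one α).symm))

theorem nonabelian_case (hcard : Nat.card G = p ^ 4) (hnab : ¬ IsMulCommutative G) :
    (Odd p ∧ ∃ (E : Type) (_ : Group E) (_ : Finite E), Cfsg.IsExtraspecial p E ∧ Nat.card E = p ^ 3 ∧
        (∀ x : E, x ^ p = 1) ∧ Nonempty (G ≃* E × Multiplicative (ZMod p))) ∨
      (p = 2 ∧ Nonempty (G ≃* QuaternionGroup 2 × Multiplicative (ZMod 2))) ∨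
      ((∀ x : G, x ^ (p ^ 2) = 1) ∧ IsCyclic ↥(Subgroup.center G) ∧ Nat.card (Subgroup.center G) = p ^ 2) ∨
      HasSeries p G := by
  have hG : IsPGroup p G := IsPGroup.of_card hcard
  haveI : Nontrivial G :=
    Finite.one_lt_card_iff_nontrivial.mp (hcard ▸ one_lt_pow₀ hp.out.one_lt (by norm_num))
  set Z := Subgroup.center G with hZ
  obtain ⟨k, hk4, hk⟩ := exists_pow (K := Z) hcard
  have hk0 : k ≠ 0 := fun h => by
    haveI := hG.center_nontrivial
    rw [h, pow_zero] at hk
    exact (Finite.one_lt_card_iff_nontrivial.mpr (inferInstance : Nontrivial Z)).ne' hk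
  have hk2 : k ≤ 2 := by
    by_contra h
    apply hnab
    apply CfsgLib.PGroupSmall.comm_of_cyclic_center_index (p := p)
    have := Z.card_mul_index
    rw [hk, hcard] at this
    refine Dvd.intro (p ^ (k - 3)) (Nat.eq_of_mul_eq_mul_left (pow_pos hp.out.pos 3) ?_)
    rw [← mul_assoc, mul_right_comm, ← pow_add, show 3 + (k - 3) = k by omega, this]
    ring
  rcases (show k = 1 ∨ k = 2 by omega) with rfl | rfl
  · exact Or.inr (Or.inr (Or.inr (maximal_class_series hcard hnab (by rw [← hZ, hk, pow_one]))))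
  set D := commutator G with hD
  have hZi : Z.index = p ^ 2 := by
    have := Z.card_mul_index
    rw [hk, hcard] at this
    exact Nat.eq_of_mul_eq_mul_left (pow_pos hp.out.pos 2) (this.trans (by ring))
  have hDc : Nat.card D = p := CfsgLib.PGroupSmall.card_commutator_of_center_index_sq hcard hZi
  have hqc : Nat.card (G ⧸ Z) = p ^ 2 := by rw [← Subgroup.index_eq_card, hZi]
  have hcl : ∀ a b : G, ⁅a, b⁆ ∈ Z := fun a b => by
    rw [← QuotientGroup.eq_one_iff, ← QuotientGroup.mk'_apply, map_commutatorElement,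
      commutatorElement_eq_one_iff_mul_comm]
    haveI := IsPGroup.isMulCommutative_of_card_eq_prime_sq hqc
    exact mul_comm' _ _
  have hclD : ∀ a b : G, ⁅a, b⁆ ∈ D := fun a b =>
    Subgroup.commutator_mem_commutator (Subgroup.mem_top a) (Subgroup.mem_top b)
  have hDZ : D ≤ Z := by rw [hD, commutator_def, Subgroup.commutator_le]; exact fun a _ b _ => hcl a b
  have hDp : ∀ x ∈ D, x ^ p = 1 := fun x hx => by
    have h1 := pow_card_eq_one' (x := (⟨x, hx⟩ : D))
    rw [hDc] at h1
    exact congrArg Subtype.val h1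
  have hnc : ¬ IsCyclic (G ⧸ Z) := fun h => hnab (isMulCommutative_of_isCyclic_quotient_center_self G)
  have hpow : ∀ a : G, a ^ p ∈ Z := fun a => by
    rw [← QuotientGroup.eq_one_iff, QuotientGroup.mk_pow]
    by_contra hne
    apply hnc
    obtain ⟨j, hj, hjo⟩ :=
      (Nat.dvd_prime_pow hp.out).mp (hqc ▸ orderOf_dvd_natCard (QuotientGroup.mk a : G ⧸ Z))
    rcases Nat.lt_or_ge j 2 with h | h
    · exact absurd (orderOf_dvd_iff_pow_eq_one.mp (hjo ▸ (pow_dvd_pow p (Nat.lt_succ_iff.mp h)).trans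
        (pow_one p).dvd)) hne
    · exact isCyclic_of_orderOf_eq_card _ (by rw [hjo, hqc, le_antisymm hj h])
  have hDZc : (D.subgroupOf Z).index = p := by
    have := (D.subgroupOf Z).card_mul_index
    rw [Nat.card_congr (Subgroup.subgroupOfEquivOfLe hDZ).toEquiv, hDc, hk] at this
    exact Nat.eq_of_mul_eq_mul_left hp.out.pos (this.trans (pow_two p))
  haveI : (D.subgroupOf Z).Normal := Subgroup.normal_subgroupOf
  have hZD : ∀ z ∈ Z, z ^ p ∈ D := fun z hz => by
    have := Subgroup.pow_index_mem (D.subgroupOf Z) (⟨z, hz⟩ : Z)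
    rwa [hDZc, Subgroup.mem_subgroupOf] at this
  -- `x ↦ x^p` modulo `D`
  let g : G →* Z ⧸ D.subgroupOf Z := MonoidHom.mk' (fun x => QuotientGroup.mk ⟨x ^ p, hpow x⟩) fun x y => by
    rw [← QuotientGroup.mk_mul, QuotientGroup.eq, Subgroup.mem_subgroupOf]
    show ((x * y) ^ p)⁻¹ * (x ^ p * y ^ p) ∈ D
    rw [CfsgLib.PGroup.mul_pow_central (hcl y x), mul_inv_rev, mul_assoc, inv_mul_cancel, mul_one]
    exact D.inv_mem (D.pow_mem (hclD y x) _)
  have hgker : ∀ x, x ∈ g.ker ↔ x ^ p ∈ D := fun x => by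
    rw [MonoidHom.mem_ker]
    exact (QuotientGroup.eq_one_iff _).trans Subgroup.mem_subgroupOf
  by_cases hK : ∀ x : G, x ^ p ∈ D
  swap
  · right; right; right
    have hKc : Nat.card g.ker = p ^ 3 := by
      have h1 := g.ker.card_mul_index
      rw [hcard] at h1
      have h2 : g.ker.index ∣ p := by
        rw [Subgroup.index_ker, ← hDZc, Subgroup.index_eq_card]
        exact Subgroup.card_subgroup_dvd_card _
      rcases (Nat.dvd_prime hp.out).1 h2 with h3 | h3
      · exact absurd (fun x => (hgker x).1 ((Subgroup.index_eq_one.1 h3).symm ▸ Subgroup.mem_top x)) hK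
      · rw [h3] at h1
        exact Nat.eq_of_mul_eq_mul_right hp.out.pos (h1.trans (by ring))
    refine ⟨D, Z, g.ker, hDZ, fun z hz => (hgker z).2 (hZD z hz), hDc, hk, hKc, inv_commutator, inv_center, ?_⟩
    intro α x hx
    rw [hgker] at hx ⊢
    rw [← map_pow]
    exact inv_commutator α _ hx
  have hexp2 : ∀ x : G, x ^ (p ^ 2) = 1 := fun x => by rw [pow_two, pow_mul]; exact hDp _ (hK x)
  by_cases hcyc : IsCyclic Z
  · exact Or.inr (Or.inr (Or.inl ⟨hexp2, hcyc, hk⟩))
  have hZp : ∀ z ∈ Z, z ^ p = 1 := fun z hz => by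
    by_contra hne
    refine hcyc (isCyclic_of_orderOf_eq_card (⟨z, hz⟩ : Z) ?_)
    rw [hk, ← Subgroup.orderOf_coe]
    exact orderOf_eq_prime_pow (by simpa using hne) (hexp2 z)
  obtain ⟨w, hwZ, hwD⟩ : ∃ w ∈ Z, w ∉ D := by
    by_contra h
    push Not at h
    have := Subgroup.card_le_of_le (H := Z) (K := D) h
    rw [hk, hDc] at this
    have := lt_sq (p := p)
    omega
  obtain ⟨M, hMc, hwM, hMtop, ⟨iso⟩⟩ := split_central hcard hwZ (hZp w hwZ)
    fun h => hwD (CfsgLib.PGroup.frattini_le_of_elementary hclD hK h)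
  have hcenM : ∀ c ∈ M, (∀ a ∈ M, a * c = c * a) → c ∈ Z := fun c hc hca => by
    have hle : M ⊔ Subgroup.zpowers w ≤ Subgroup.centralizer {c} :=
      sup_le (fun a ha => Subgroup.mem_centralizer_singleton_iff.mpr (hca a ha))
        (Subgroup.zpowers_le.2 (Subgroup.mem_centralizer_singleton_iff.mpr (Subgroup.mem_center_iff.1 hwZ c).symm))
    exact Subgroup.mem_center_iff.2 fun t =>
      Subgroup.mem_centralizer_singleton_iff.mp (hle (hMtop ▸ Subgroup.mem_top t))
  have hMnab : ¬ ∀ a b : M, a * b = b * a := fun h => by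
    have hle : M ⊔ Subgroup.zpowers w ≤ Z := sup_le (fun m hm => hcenM m hm fun a ha =>
      congrArg Subtype.val (h ⟨a, ha⟩ ⟨m, hm⟩)) (Subgroup.zpowers_le.2 hwZ)
    exact hnab ⟨⟨fun x y => Subgroup.mem_center_iff.1 (hle (hMtop ▸ Subgroup.mem_top y)) x⟩⟩
  have hMp : IsPGroup p M := hG.to_subgroup M
  rcases hp.out.eq_two_or_odd' with hp2 | hodd
  · subst hp2
    by_cases hinv : ∀ x : G, x ^ 2 = 1 → x ∈ Z
    · refine Or.inr (Or.inl ⟨rfl, ?_⟩)
      have hu : CfsgLib.RankOneP.UniqueOrderP 2 M := fun x y hx hy hx1 => by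
        obtain ⟨i, -, hi⟩ := exists_pow (K := M ⊓ Z) hcard
        have hxz : (x : G) ∈ M ⊓ Z := ⟨x.2, hinv x (congrArg Subtype.val hx)⟩
        have hyz : (y : G) ∈ M ⊓ Z := ⟨y.2, hinv y (congrArg Subtype.val hy)⟩
        have hlt := card_lt_of_not_mem (inf_le_right : M ⊓ Z ≤ Z) hwZ (fun h => hwM h.1)
        rw [hi, hk] at hlt
        have hi1 : i ≤ 1 := Nat.lt_succ_iff.1 ((Nat.pow_lt_pow_iff_right one_lt_two).1 hlt)
        have he : Subgroup.zpowers (x : G) = M ⊓ Z := Subgroup.eq_of_le_of_card_ge (Subgroup.zpowers_le.2 hxz)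
          (by rw [hi, Nat.card_zpowers, orderOf_eq_prime (congrArg Subtype.val hx) (fun e => hx1 (Subtype.ext e))]
              exact (Nat.pow_le_pow_right two_pos hi1).trans (pow_one 2).le)
        obtain ⟨j, hj⟩ := (he.ge hyz : (y : G) ∈ Subgroup.zpowers (x : G))
        exact ⟨j, Subtype.ext (by simpa using hj)⟩
      rcases CfsgLib.RankOneP.isCyclic_or_quaternion hMp hu with hc | ⟨-, j, -, ⟨e⟩⟩
      · haveI := hc
        exact absurd (fun a b => (IsCyclic.isMulCommutative (α := M)).is_comm.comm a b) hMnab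
      · have hc := Nat.card_congr e.toEquiv
        rw [hMc, Nat.card_eq_fintype_card (α := QuaternionGroup (2 ^ j)), QuaternionGroup.card] at hc
        have : j = 1 := Nat.pow_right_injective le_rfl (show 2 ^ j = 2 ^ 1 by norm_num at hc ⊢; omega)
        subst this
        exact ⟨iso.trans (MulEquiv.prodCongr e (MulEquiv.refl _))⟩
    push Not at hinv
    obtain ⟨t, ht, htZ⟩ := hinv
    exact Or.inr (Or.inr (Or.inr (two_case hcard hnab hk hDc hcl hK hZp ht htZ)))
  · by_cases hexp : ∀ x : G, x ^ p = 1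
    · refine Or.inl ⟨hodd, Shrink.{0} M, inferInstance, inferInstance, ?_⟩
      have e : Shrink.{0} M ≃* M := Shrink.mulEquiv
      have hc : Nat.card (Shrink.{0} M) = p ^ 3 := by rw [Nat.card_congr e.toEquiv, hMc]
      have hpw : ∀ x : Shrink.{0} M, x ^ p = 1 := fun x => e.injective (Subtype.ext (by
        rw [map_pow, map_one, SubmonoidClass.coe_pow, hexp]; rfl))
      exact ⟨(CfsgLib.QdOver.extraspecial_cube (IsPGroup.of_card hc) hc hpw fun h => hMnab fun a b => by
        simpa using congrArg e (h (e.symm a) (e.symm b))).1, hc, hpw,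
        ⟨iso.trans (MulEquiv.prodCongr e.symm (MulEquiv.refl _))⟩⟩
    · right; right; right
      let f : G →* D := MonoidHom.mk' (fun x => ⟨x ^ p, hK x⟩) fun x y => Subtype.ext (by
        show (x * y) ^ p = x ^ p * y ^ p
        obtain ⟨r, hr⟩ := hp.out.dvd_choose_self two_ne_zero (by
          rcases eq_or_lt_of_le hp.out.two_le with h | h
          · exact absurd hodd (by rw [← h]; decide)
          · exact h)
        rw [CfsgLib.PGroup.mul_pow_central (hcl y x), hr, pow_mul, hDp _ (hclD y x), one_pow, mul_one])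
      have hfm : ∀ x, x ∈ f.ker ↔ x ^ p = 1 := fun x => by
        rw [MonoidHom.mem_ker, Subtype.ext_iff]; rfl
      have hKc : Nat.card f.ker = p ^ 3 := by
        have h1 := f.ker.card_mul_index
        rw [hcard] at h1
        have h2 : f.ker.index ∣ p := by
          rw [Subgroup.index_ker, ← hDc]
          exact Subgroup.card_subgroup_dvd_card _
        rcases (Nat.dvd_prime hp.out).1 h2 with h3 | h3
        · exact absurd (fun x => (hfm x).1 ((Subgroup.index_eq_one.1 h3).symm ▸ Subgroup.mem_top x)) hexp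
        · rw [h3] at h1
          exact Nat.eq_of_mul_eq_mul_right hp.out.pos (h1.trans (by ring))
      refine ⟨D, Z, f.ker, hDZ, fun z hz => (hfm z).2 (hZp z hz), hDc, hk, hKc, inv_commutator, inv_center, ?_⟩
      intro α x hx
      rw [hfm] at hx ⊢
      rw [← map_pow, hx, map_one]

end CfsgLib.FourthEssential
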