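import Mathlib
import Cfsg.Agent.Fusion.ChainStab
import Cfsg.Agent.Fusion.EssentialPair
import Cfsg.Agent.H29.CubeEssential.Main
import Cfsg.Agent.FourthEssential.NonAbelian

/-!
Essential subgroups of order `p⁴`.
-/

set_option autoImplicit false
set_option linter.style.haveILetI false

namespace CfsgLib.FourthEssential

open Cfsg Cfsg.FusionSystem CfsgLib.Fusion

variable {Ω : Type*} [Group Ω] {S : Subgroup Ω} [Finite S] {F : Cfsg.FusionSystem S}
variable {p : ℕ} [hp : Fact p.Prime]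

/-- An essential subgroup has no invariant series with factors of order `p`. -/
theorem no_series (H : Subgroup Ω) (hH : F.IsEssential p H) (hcard : Nat.card H = p ^ 4) :
    ¬ HasSeries p H := by
  rintro ⟨K, L, M, hKL, hLM, hKc, hLc, hMc, hK, hL, hM⟩
  haveI := finite_of_le hH.1.1
  haveI := finite_mulAut hH.1.1
  let T : ℕ → Subgroup H := fun i => if i = 0 then ⊥ else if i = 1 then K else if i = 2 then L
    else if i = 3 then M else ⊤
  let C : ℕ → Subgroup Ω := fun i => (T i).map H.subtype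
  have hT : Monotone T := monotone_nat_of_le_succ fun i => by
    rcases i with _ | _ | _ | _ | i <;> simp [T, hKL, hLM]
  have hC : Monotone C := fun i j hij => Subgroup.map_mono (hT hij)
  have hTinv : ∀ (i : ℕ) (α : MulAut H) (x : H), x ∈ T i → α x ∈ T i := fun i α x hx => by
    rcases i with _ | _ | _ | _ | i
    · simp only [T] at hx ⊢
      rw [Subgroup.mem_bot.1 hx, map_one]; exact one_mem _
    · exact hK α x hx
    · exact hL α x hx
    · exact hM α x hx
    · simp [T]
  have hmem : ∀ (i : ℕ) (x : H), (x : Ω) ∈ C i ↔ x ∈ T i := fun i x =>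
    Subgroup.mem_map_iff_mem H.subtype_injective
  set A := F.autGroup H
  have hpres : ∀ γ ∈ A, PreservesChain C γ := fun γ _ i x hx => (hmem i _).2 (hTinv i γ x ((hmem i x).1 hx))
  have hHp : IsPGroup p H := IsPGroup.of_card hcard
  obtain ⟨P⟩ : Nonempty (Sylow p A) := inferInstance
  refine CfsgLib.H29.CubeEssential.sylow_normal_false H hH P ?_
  set D := (chainStab C 4 hC).subgroupOf A
  have hDn : D.Normal := ⟨fun β hβ γ => by
    intro i hi x hx
    have hy := hpres _ (inv_mem γ.2) (i + 1) x hx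
    have h1 := hpres _ γ.2 i _ ((mem_chainStab (hL := hC).1 hβ) i hi _ hy)
    simp only [map_mul, map_inv, MulAut.apply_inv_self] at h1
    exact h1⟩
  have hDp : IsPGroup p D := (isPGroup_chainStab hHp hC (by simp [C, T])
    (fun x hx => (hmem 4 ⟨x, hx⟩).2 (by simp [T]))).comap_of_injective A.subtype A.subtype_injective
  have hPD : (P : Subgroup A) ≤ D := by
    intro γ hγ
    obtain ⟨k, hk⟩ := P.2 ⟨γ, hγ⟩
    have hk' : (γ : MulAut H) ^ p ^ k = 1 := congrArg (fun z : (P : Subgroup A) => ((z : A) : MulAut H)) hk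
    intro i hi x hx
    refine (hmem i _).2 (CfsgLib.H29.CubeEssential.stab_factor (p := p) (T i) (T (i + 1)) (hT (Nat.le_succ i))
      ?_ _ hk' (fun j y hy => hTinv i _ y hy) (fun j y hy => hTinv _ _ y hy) ((hmem _ x).1 hx))
    rcases i with _ | _ | _ | _ | i
    · simp [T, hKc]
    · simp [T, hKc, hLc, pow_two]
    · simp [T, hLc, hMc]; ring
    · simp [T, hMc, hcard]; ring
    · omega
  rw [← P.is_maximal' hDp hPD]
  exact hDn

/-- `C_{p²} × C_{p²}` is not essential for `p ≥ 5`. -/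
theorem no_homocyclic (hS : IsPGroup p S) (hF : F.IsSaturated p) (H : Subgroup Ω) (hH : F.IsEssential p H)
    (hab : ∀ a b : H, a * b = b * a) (hp5 : 3 < p) (f : H →* H) (hf : ∀ x, f x = x ^ p)
    (heq : f.range = f.ker) (hker : Nat.card f.ker = p ^ 2) : False := by
  haveI := finite_of_le hH.1.1
  haveI := finite_mulAut hH.1.1
  obtain ⟨-, b, hb, hbn⟩ := exists_separating hS hF hH
  have hinn : ∀ α ∈ Cfsg.Inn H, α = 1 := by
    rintro _ ⟨h, rfl⟩
    ext x
    rw [MulAut.conj_apply, hab h x, mul_inv_cancel_right]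
    rfl
  set K := f.ker.map H.subtype
  have hKmem : ∀ x : H, (x : Ω) ∈ K ↔ x ^ p = 1 := fun x => by
    rw [← hf]; exact (Subgroup.mem_map_iff_mem H.subtype_injective).trans MonoidHom.mem_ker
  have hKinv : ∀ a ∈ F.autGroup H, ∀ y : H, (y : Ω) ∈ K → ((a y : H) : Ω) ∈ K := fun a _ y hy => by
    rw [hKmem] at hy ⊢
    rw [← map_pow, hy, map_one]
  have hrange : ∀ x : H, x ^ p = 1 → ∃ y, y ^ p = x := fun x hx => by
    obtain ⟨y, hy⟩ := (heq ▸ (MonoidHom.mem_ker.2 (by rw [hf, hx]) : x ∈ f.ker) : x ∈ f.range)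
    exact ⟨y, by rw [← hf, hy]⟩
  have hexp : ∀ y : H, (y ^ p) ^ p = 1 := fun y => by
    have h1 : f y ∈ f.ker := heq ▸ ⟨y, rfl⟩
    rwa [MonoidHom.mem_ker, hf, hf] at h1
  -- `δ y = y⁻¹ b y`
  let δ : H →* H := MonoidHom.mk' (fun y => y⁻¹ * b y) fun x y => by
    rw [map_mul, mul_inv_rev]
    calc y⁻¹ * x⁻¹ * (b x * b y) = y⁻¹ * (x⁻¹ * b x) * b y := by group
      _ = x⁻¹ * b x * y⁻¹ * b y := by rw [hab y⁻¹]
      _ = x⁻¹ * b x * (y⁻¹ * b y) := by group
  have hbd : ∀ y, b y = y * δ y := fun y => (mul_inv_cancel_left y (b y)).symm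
  have hδK : ∀ y, y ^ p = 1 → δ y ^ p = 1 := fun y hy => by rw [← map_pow, hy, map_one]
  obtain ⟨k, hk⟩ := isPGroup_autInducedBy p hS H ⟨b, hb⟩
  have hk' : b ^ p ^ k = 1 := congrArg Subtype.val hk
  have hA : ∀ y, y ^ p = 1 → δ (δ y) = 1 := by
    let Q : Subgroup H := f.ker ⊓ δ.ker
    have hQfix : ∀ x ∈ Q, b x = x := fun x hx => by rw [hbd, MonoidHom.mem_ker.1 hx.2, mul_one]
    by_cases hQ : Nat.card Q = p ^ 2
    · intro y hy
      have h1 : Q = f.ker := Subgroup.eq_of_le_of_card_ge inf_le_left (by rw [hQ, hker])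
      have h2 : y ∈ Q := h1 ▸ MonoidHom.mem_ker.2 (by rw [hf, hy])
      rw [MonoidHom.mem_ker.1 h2.2, map_one]
    have hQne : Q ≠ ⊥ := by
      let σ : Equiv.Perm f.ker :=
        { toFun := fun x => ⟨b x, by rw [MonoidHom.mem_ker, hf, ← map_pow, ← hf, MonoidHom.mem_ker.1 x.2, map_one]⟩
          invFun := fun x => ⟨b⁻¹ x, by rw [MonoidHom.mem_ker, hf, ← map_pow, ← hf, MonoidHom.mem_ker.1 x.2, map_one]⟩
          left_inv := fun x => Subtype.ext (MulAut.inv_apply_self _ b x)
          right_inv := fun x => Subtype.ext (MulAut.apply_inv_self _ b x) }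
      have hσn : ∀ (n : ℕ) (x : f.ker), (((σ ^ n) x : f.ker) : H) = (b ^ n) x := by
        intro n
        induction n with
        | zero => intro x; simp
        | succ n ih =>
          intro x
          rw [pow_succ', pow_succ', Equiv.Perm.mul_apply, MulAut.mul_apply, ← ih]
          rfl
      have hP : IsPGroup p (Subgroup.zpowers σ) := IsPGroup.of_card_dvd_pow (n := k) (by
        rw [Nat.card_zpowers]
        exact orderOf_dvd_of_pow_eq_one (Equiv.ext fun x => Subtype.ext (by rw [hσn, hk']; rfl)))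
      have h1 := hP.card_modEq_card_fixedPoints (α := f.ker)
      rw [hker] at h1
      have h2 : p ∣ Nat.card (MulAction.fixedPoints (Subgroup.zpowers σ) f.ker) :=
        Nat.modEq_zero_iff_dvd.mp (h1.symm.trans (Nat.modEq_zero_iff_dvd.mpr (dvd_pow_self p two_ne_zero)))
      intro hbot
      have h3 : ∀ x ∈ MulAction.fixedPoints (Subgroup.zpowers σ) f.ker, x = 1 := fun x hx => by
        have h4 : b (x : H) = x := congrArg Subtype.val (hx ⟨σ, Subgroup.mem_zpowers σ⟩)
        have h5 : (x : H) ∈ Q := ⟨x.2, MonoidHom.mem_ker.2 (by show (x : H)⁻¹ * b x = 1; rw [h4, inv_mul_cancel])⟩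
        rw [hbot, Subgroup.mem_bot] at h5
        exact Subtype.ext h5
      haveI : Subsingleton (MulAction.fixedPoints (Subgroup.zpowers σ) f.ker) :=
        ⟨fun x y => Subtype.ext ((h3 x x.2).trans (h3 y y.2).symm)⟩
      have h6 : Nat.card (MulAction.fixedPoints (Subgroup.zpowers σ) f.ker) ≤ 1 :=
        Finite.card_le_one_iff_subsingleton.2 inferInstance
      have h7 : 0 < Nat.card (MulAction.fixedPoints (Subgroup.zpowers σ) f.ker) := by
        haveI : Nonempty (MulAction.fixedPoints (Subgroup.zpowers σ) f.ker) := ⟨⟨1, by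
          rintro ⟨_, i, rfl⟩
          exact Equiv.Perm.zpow_apply_eq_self_of_apply_eq_self (Subtype.ext (map_one b)) i⟩⟩
        exact Nat.card_pos
      exact absurd ((Nat.le_of_dvd h7 h2).trans h6) (not_le.2 hp.out.one_lt)
    have hQc : Nat.card Q = p := by
      obtain ⟨i, hi, hi'⟩ := (Nat.dvd_prime_pow hp.out).1 (hker ▸ Subgroup.card_dvd_of_le (inf_le_left : Q ≤ f.ker))
      have h0 : i ≠ 0 := fun h => hQne (Subgroup.card_eq_one.1 (by rw [hi', h, pow_zero]))
      have h2 : i ≠ 2 := fun h => hQ (by rw [hi', h])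
      rw [hi', show i = 1 by omega, pow_one]
    intro y hy
    have h := CfsgLib.H29.CubeEssential.stab_factor (p := p) Q f.ker inf_le_left (by rw [hker, hQc, pow_two]) b hk'
      (fun i x hx => by
        have h1 : b ∈ MulAction.stabilizer (MulAut H) x := MulAction.mem_stabilizer_iff.2 (hQfix x hx)
        have h2 := MulAction.mem_stabilizer_iff.1 (Subgroup.zpow_mem _ h1 i)
        rw [MulAut.smul_def] at h2
        rwa [h2])
      (fun i x hx => by rw [MonoidHom.mem_ker, hf, ← map_pow, ← hf, MonoidHom.mem_ker.1 hx, map_one])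
      (x := y) (MonoidHom.mem_ker.2 (by rw [hf, hy]))
    exact MonoidHom.mem_ker.1 h.2
  have hB : ∀ y, δ (δ y) ^ p = 1 := fun y => by rw [← map_pow, ← map_pow]; exact hA _ (hexp y)
  have hexpand : ∀ (n : ℕ) (y : H),
      (b ^ n) y = y * δ y ^ n * δ (δ y) ^ (n.choose 2) * δ (δ (δ y)) ^ (n.choose 3) := by
    intro n y
    induction n with
    | zero => simp
    | succ n ih =>
      rw [pow_succ', MulAut.mul_apply, ih]
      simp only [map_mul, map_pow, hbd, hA _ (hB y), one_pow, mul_one]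
      rw [Nat.choose_succ_succ' n 1, Nat.choose_one_right, Nat.choose_succ_succ' n 2]
      have hlc : ∀ a c d : H, a * (c * d) = c * (a * d) := fun a c d => by
        rw [← mul_assoc, hab a c, mul_assoc]
      simp only [Commute.mul_pow (hab _ _), pow_add, pow_one, show (1 : ℕ) + 1 = 2 from rfl,
        show (2 : ℕ) + 1 = 3 from rfl, mul_assoc, hab, hlc]
  have hbp : ∀ y, (b ^ p) y = y * δ (y ^ p) := fun y => by
    obtain ⟨r, hr⟩ := hp.out.dvd_choose_self (k := 2) two_ne_zero (by omega)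
    obtain ⟨r', hr'⟩ := hp.out.dvd_choose_self (k := 3) (by norm_num) hp5
    rw [hexpand, map_pow, hr, pow_mul, hB, one_pow, mul_one, hr', pow_mul, hδK _ (hB y), one_pow, mul_one]
  have h1 : b ^ p ∈ Cfsg.Inn H := by
    refine mem_inn_of_stabilizes hS hF hH (Subgroup.map_subtype_le _) hKinv (pow_mem hb p) (fun y hy => ?_) fun y => ?_
    · rw [hbp, (hKmem y).1 hy, map_one, mul_one]
    · rw [hKmem, hbp, inv_mul_cancel_left]
      exact hδK _ (hexp y)
  have h2 : ∀ y : H, δ (y ^ p) = 1 := fun y => by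
    have := hbp y
    rw [hinn _ h1] at this
    exact (left_eq_mul.1 this)
  refine hbn (mem_inn_of_stabilizes hS hF hH (Subgroup.map_subtype_le _) hKinv hb (fun y hy => ?_) fun y => ?_)
  · obtain ⟨z, rfl⟩ := hrange y ((hKmem y).1 hy)
    rw [hbd, h2, mul_one]
  · rw [hKmem]
    show (δ y) ^ p = 1
    rw [← map_pow, h2]

theorem classify (hS : IsPGroup p S) (hF : F.IsSaturated p) (H : Subgroup Ω) (hH : F.IsEssential p H)
    (hcard : Nat.card H = p ^ 4) :
    Cfsg.IsElementaryAbelian p H ∨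
      Nonempty (↥H ≃* Multiplicative (ZMod (p ^ 2) × ZMod p × ZMod p)) ∨
      ((p = 2 ∨ p = 3) ∧ Nonempty (↥H ≃* Multiplicative (ZMod (p ^ 2) × ZMod (p ^ 2)))) ∨
      (Odd p ∧ ∃ (E : Type) (_ : Group E) (_ : Finite E), Cfsg.IsExtraspecial p E ∧ Nat.card E = p ^ 3 ∧
        (∀ x : E, x ^ p = 1) ∧ Nonempty (↥H ≃* E × Multiplicative (ZMod p))) ∨
      (p = 2 ∧ Nonempty (↥H ≃* QuaternionGroup 2 × Multiplicative (ZMod 2))) ∨
      (¬ IsMulCommutative ↥H ∧ (∀ x ∈ H, x ^ (p ^ 2) = 1) ∧ IsCyclic ↥(Subgroup.center ↥H) ∧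
        Nat.card (Subgroup.center ↥H) = p ^ 2) := by
  haveI := finite_of_le hH.1.1
  have hns := no_series H hH hcard
  by_cases hab : IsMulCommutative H
  · have hab' : ∀ a b : H, a * b = b * a := hab.is_comm.comm
    rcases abelian_case hcard hab' with h | h | ⟨hiso, f, hf, heq, hker⟩ | h
    · exact Or.inl ⟨hab, fun a ha => congrArg Subtype.val (h ⟨a, ha⟩)⟩
    · exact Or.inr (Or.inl h)
    · refine Or.inr (Or.inr (Or.inl ⟨?_, hiso⟩))
      by_contra hne
      push Not at hne
      exact no_homocyclic hS hF H hH hab' (by have := hp.out.two_le; omega) f hf heq hker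
    · exact absurd h hns
  · rcases nonabelian_case hcard hab with h | h | ⟨he, hc, hk⟩ | h
    · exact Or.inr (Or.inr (Or.inr (Or.inl h)))
    · exact Or.inr (Or.inr (Or.inr (Or.inr (Or.inl h))))
    · exact Or.inr (Or.inr (Or.inr (Or.inr (Or.inr ⟨hab, fun x hx => congrArg Subtype.val (he ⟨x, hx⟩), hc, hk⟩))))
    · exact absurd h hns

end CfsgLib.FourthEssential
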